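import Groth.Agent.LayerLib.Piece

/-!
The layers of an integrable logarithmic λ-connection do not depend on the admissible coordinates.
-/

set_option autoImplicit false
set_option maxHeartbeats 800000
set_option linter.style.haveILetI false
universe v u
open TensorProduct

namespace Groth.Agent.LayerLib

variable {A : Type v} {B L E : Type u} [CommRing A] [CommRing B]
  [Algebra A B] [AddCommGroup L] [Module B L] [Module A L] [IsScalarTower A B L]
  [AddCommGroup E] [Module B E] [Module A E] [IsScalarTower A B E] {n : ℕ}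

/-- components commute as soon as `d` kills the basis forms -/
theorem comp_commute_of_d_eq_zero (ω : Module.Basis (Fin n) B L)
    (lam : B) (nabla : E →ₗ[A] E ⊗[B] L)
    (d : ∀ p : ℕ, ↥(⋀[B]^p L) →ₗ[A] ↥(⋀[B]^(p + 1) L))
    (hd1 : ∀ j, d 1 (exteriorPower.ιMulti B 1 (fun _ => ω j)) = 0)
    (nablas : ∀ p : ℕ, E ⊗[B] ↥(⋀[B]^p L) →ₗ[A] E ⊗[B] ↥(⋀[B]^(p + 1) L))
    (hint : Conn.IsIntegrable nabla (fun p => lam • d p) nablas)
    (a b : Fin n) (m : E) :
    LogConn.comp nabla ω a (LogConn.comp nabla ω b m) =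
      LogConn.comp nabla ω b (LogConn.comp nabla ω a m) := by
  classical
  by_cases hab : a = b
  · subst hab; rfl
  have h := hint.2 m
  rw [eq_sum_comp nabla ω m, map_sum, map_sum] at h
  have h1 : ∀ j, nablas 1 (Conn.toOne (LogConn.comp nabla ω j m ⊗ₜ[B] ω j)) =
      ∑ i, LogConn.comp nabla ω i (LogConn.comp nabla ω j m) ⊗ₜ[B]
        exteriorPower.ιMulti B 2 (ω ∘ Fin.cons i (fun _ => j)) := fun j => by
    rw [Conn.toOne_tmul, oneEquiv_symm_apply, hint.1, LinearMap.smul_apply, hd1, smul_zero,
      TensorProduct.tmul_zero, add_zero, eq_sum_comp nabla ω (LogConn.comp nabla ω j m), map_sum,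
      map_sum, LinearMap.sum_apply]
    refine Finset.sum_congr rfl fun i _ => ?_
    rw [Conn.toOne_tmul, Conn.twedge_tmul, wedge_one]
    congr 2
    funext k
    induction k using Fin.cases <;> simp
  simp only [h1] at h
  let φ : E ⊗[B] ↥(⋀[B]^2 L) →ₗ[B] E := (TensorProduct.rid B E).toLinearMap ∘ₗ
    TensorProduct.map LinearMap.id
      (exteriorPower.pairingDual B L 2 (exteriorPower.ιMulti B 2 ![ω.coord a, ω.coord b]))
  have h2 := congrArg φ h
  simp only [map_sum, map_zero, φ, LinearMap.comp_apply, LinearEquiv.coe_coe, TensorProduct.map_tmul,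
    LinearMap.id_apply, TensorProduct.rid_tmul, exteriorPower.pairingDual_ιMulti_ιMulti,
    Matrix.det_fin_two, Matrix.of_apply, Matrix.cons_val_zero, Matrix.cons_val_one,
    Module.Basis.coord_apply, Function.comp_apply, Fin.cons_zero, Fin.cons_one,
    Module.Basis.repr_self] at h2
  rw [Finset.sum_comm] at h2
  simp only [Finsupp.single_apply, sub_smul, Finset.sum_sub_distrib, ite_mul, mul_ite, one_mul,
    mul_one, zero_mul, mul_zero, ite_smul, one_smul, zero_smul] at h2
  simp only [Finset.sum_ite_eq', Finset.sum_ite_eq, Finset.mem_univ, if_true] at h2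
  exact sub_eq_zero.mp h2

theorem d_one_eq_zero (ω : Module.Basis (Fin n) B L) (ι : KaehlerDifferential A B →ₗ[B] L)
    (d : ∀ p : ℕ, ↥(⋀[B]^p L) →ₗ[A] ↥(⋀[B]^(p + 1) L))
    (hd : LogDiff.IsLogRule (KaehlerDifferential.D A B) ι (⇑ω) d) (j : Fin n) :
    d 1 (exteriorPower.ιMulti B 1 (fun _ => ω j)) = 0 := by
  have h := hd 1 1 (fun _ => ω j) (fun _ => Or.inr ⟨j, rfl⟩)
  rw [one_smul, Derivation.map_one_eq_zero, map_zero] at h
  rw [h]
  exact AlternatingMap.map_coord_zero _ 0 (by simp)

theorem d_one_add_dlog_eq_zero (ω : Module.Basis (Fin n) B L) (ι : KaehlerDifferential A B →ₗ[B] L)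
    (d : ∀ p : ℕ, ↥(⋀[B]^p L) →ₗ[A] ↥(⋀[B]^(p + 1) L))
    (hd : LogDiff.IsLogRule (KaehlerDifferential.D A B) ι (⇑ω) d) (j : Fin n) (u : Bˣ) :
    d 1 (exteriorPower.ιMulti B 1
      (fun _ => ω j + (u⁻¹ : Bˣ).val • ι (KaehlerDifferential.D A B (u : B)))) = 0 := by
  simp only [← oneEquiv_symm_apply, map_add, map_smul]
  rw [oneEquiv_symm_apply, oneEquiv_symm_apply, d_one_eq_zero ω ι d hd j, zero_add]
  have h := hd 1 (u⁻¹ : Bˣ).val (fun _ => ι (KaehlerDifferential.D A B (u : B)))
    (fun _ => Or.inl ⟨_, rfl⟩)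
  rw [h]
  have hinv : KaehlerDifferential.D A B (u⁻¹ : Bˣ).val =
      (-((u⁻¹ : Bˣ).val * (u⁻¹ : Bˣ).val)) • KaehlerDifferential.D A B (u : B) := by
    have e := (KaehlerDifferential.D A B).leibniz (u : B) (u⁻¹ : Bˣ).val
    rw [Units.mul_inv, Derivation.map_one_eq_zero] at e
    have e' := congrArg (fun x => (u⁻¹ : Bˣ).val • x) e.symm
    simp only [smul_add, smul_smul, Units.inv_mul, one_smul, smul_zero] at e'
    rw [neg_smul]
    exact eq_neg_of_add_eq_zero_left e'
  set r : B := -((u⁻¹ : Bˣ).val * (u⁻¹ : Bˣ).val)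
  set l : L := ι (KaehlerDifferential.D A B (u : B))
  rw [hinv, map_smul]
  change exteriorPower.ιMulti B (1 + 1) (Fin.cons (r • l) fun _ => l) = 0
  rw [show (Fin.cons (r • l) fun _ => l : Fin (1 + 1) → L) =
    Function.update (Fin.cons l fun _ => l) 0 (r • l) by rw [Fin.update_cons_zero],
    AlternatingMap.map_update_smul, Fin.update_cons_zero,
    AlternatingMap.map_eq_zero_of_eq _ _ (i := 0) (j := 1) (by simp) (by simp), smul_zero]

variable (lam : B) (t : Fin n → B) (ω : Module.Basis (Fin n) B L)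
  (ι : KaehlerDifferential A B →ₗ[B] L) (nabla : E →ₗ[A] E ⊗[B] L)
  (hι : ∀ i, ι (KaehlerDifferential.D A B (t i)) = t i • ω i)
  (hc : Conn.IsLamConn (ι.compDer (KaehlerDifferential.D A B)) lam nabla)
  (hspan : Submodule.span B (Set.range fun i => KaehlerDifferential.D A B (t i)) = ⊤)
  (hcomm : ∀ a b m, LogConn.comp nabla ω a (LogConn.comp nabla ω b m) =
      LogConn.comp nabla ω b (LogConn.comp nabla ω a m))

omit [Module A L] [IsScalarTower A B L] in
include hcomm in
theorem compProd_union {S T : Finset (Fin n)} (h : Disjoint S T) :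
    LogConn.compProd nabla ω (S ∪ T) = LogConn.compProd nabla ω S ∘ₗ LogConn.compProd nabla ω T := by
  classical
  induction S using Finset.induction_on with
  | empty => simp [LogConn.compProd]
  | insert i S hi ih =>
    rw [Finset.disjoint_insert_left] at h
    rw [Finset.insert_union, compProd_insert ω nabla hcomm (by simp [hi, h.1]), ih h.2,
      compProd_insert ω nabla hcomm hi, LinearMap.comp_assoc]

omit [Module A L] [IsScalarTower A B L] in
include hcomm in
theorem compProd_comp (J : Finset (Fin n)) (k : Fin n) (e : E) :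
    LogConn.comp nabla ω k (LogConn.compProd nabla ω J e) =
      LogConn.compProd nabla ω J (LogConn.comp nabla ω k e) := by
  classical
  induction J using Finset.induction_on with
  | empty => simp [LogConn.compProd]
  | insert i J hi ih =>
    rw [compProd_insert ω nabla hcomm hi, LinearMap.comp_apply, LinearMap.comp_apply, hcomm, ih]

omit [Module A L] [IsScalarTower A B L] in
theorem mem_piece_of_term {I J : Finset (Fin n)} (hJ : J ⊆ I) (e : E) :
    (∏ i ∈ I \ J, t i) • LogConn.compProd nabla ω J e ∈ LogConn.piece nabla ω t I :=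
  Submodule.mem_iSup_of_mem J (Submodule.mem_iSup_of_mem (Finset.mem_powerset.mpr hJ) ⟨e, rfl⟩)

include hι hc hspan hcomm in
/-- `t_{K ∖ I}` carries the piece of `I` into that of `K`. -/
theorem prod_smul_piece (I K : Finset (Fin n)) (x : E) (hx : x ∈ LogConn.piece nabla ω t I) :
    (∏ i ∈ K \ I, t i) • x ∈ LogConn.piece nabla ω t K := by
  classical
  suffices H : LogConn.piece nabla ω t I ≤ (LogConn.piece nabla ω t K).comap
      ((LinearMap.lsmul B E (∏ i ∈ K \ I, t i)).restrictScalars A) from H hx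
  refine iSup₂_le fun J hJ => ?_
  rintro _ ⟨e, rfl⟩
  rw [Finset.mem_powerset] at hJ
  show (∏ i ∈ K \ I, t i) • (∏ i ∈ I \ J, t i) • LogConn.compProd nabla ω J e ∈ LogConn.piece nabla ω t K
  have h1 : (∏ i ∈ K \ I, t i) * (∏ i ∈ I \ J, t i) =
      (∏ i ∈ (I \ J) \ K, t i) * ∏ i ∈ K \ (J ∩ K), t i := by
    rw [← Finset.prod_union (Finset.disjoint_left.mpr fun a ha ha' =>
      (Finset.mem_sdiff.mp ha).2 (Finset.mem_sdiff.mp ha').1),
      ← Finset.prod_union (Finset.disjoint_left.mpr fun a ha ha' =>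
      (Finset.mem_sdiff.mp ha).2 (Finset.mem_sdiff.mp ha').1)]
    congr 1
    ext a
    have := @hJ a
    simp only [Finset.mem_union, Finset.mem_sdiff, Finset.mem_inter]
    tauto
  have h2 : LogConn.compProd nabla ω J e =
      LogConn.compProd nabla ω (J ∩ K) (LogConn.compProd nabla ω (J \ K) e) := by
    rw [← LinearMap.comp_apply, ← compProd_union ω nabla hcomm
      (Finset.disjoint_left.mpr fun a ha ha' =>
        (Finset.mem_sdiff.mp ha').2 (Finset.mem_inter.mp ha).2)]
    congr 2
    ext a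
    simp only [Finset.mem_union, Finset.mem_sdiff, Finset.mem_inter]
    tauto
  rw [smul_smul, h1, h2, mul_smul]
  exact piece_smul_mem lam t ω ι nabla hι hc hspan _ _ _
    (mem_piece_of_term t ω nabla Finset.inter_subset_right _)

include hι hc hspan hcomm in
/-- Every component preserves every piece. -/
theorem comp_mem_piece (R : Finset (Fin n)) (k : Fin n) (x : E)
    (hx : x ∈ LogConn.piece nabla ω t R) :
    LogConn.comp nabla ω k x ∈ LogConn.piece nabla ω t R := by
  classical
  suffices H : LogConn.piece nabla ω t R ≤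
      (LogConn.piece nabla ω t R).comap (LogConn.comp nabla ω k) from H hx
  refine iSup₂_le fun J hJ => ?_
  rintro _ ⟨e, rfl⟩
  rw [Finset.mem_powerset] at hJ
  show LogConn.comp nabla ω k ((∏ i ∈ R \ J, t i) • LogConn.compProd nabla ω J e) ∈ LogConn.piece nabla ω t R
  by_cases hk : k ∈ R \ J
  · rw [← Finset.mul_prod_erase _ _ hk, mul_smul, comp_smul ω _ ι lam nabla hc,
      comp_prod_smul lam t ω ι nabla hι hc k _ (Finset.notMem_erase _ _), hι, map_smul,
      Module.Basis.repr_self, Finsupp.smul_single, Finsupp.single_eq_same, smul_eq_mul, mul_one,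
      mul_smul lam, smul_smul (t k), smul_smul (t k), Finset.mul_prod_erase _ _ hk,
      compProd_comp ω nabla hcomm]
    exact add_mem (mem_piece_of_term t ω nabla hJ _)
      (piece_smul_mem lam t ω ι nabla hι hc hspan _ _ _ (mem_piece_of_term t ω nabla hJ _))
  · rw [comp_prod_smul lam t ω ι nabla hι hc k _ hk, compProd_comp ω nabla hcomm]
    exact mem_piece_of_term t ω nabla hJ _

variable (t' : Fin n → B) (ω' : Module.Basis (Fin n) B L)
  (hι' : ∀ i, ι (KaehlerDifferential.D A B (t' i)) = t' i • ω' i)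
  (hspan' : Submodule.span B (Set.range fun i => KaehlerDifferential.D A B (t' i)) = ⊤)
  (hη : ∀ i, ∃ η, ω' i = ω i + ι η) (hdvd : ∀ i, t i ∣ t' i)

include hι hc hspan hcomm hι' hspan' hη hdvd in
theorem compProd'_mem_piece (e : E) : ∀ I : Finset (Fin n),
    LogConn.compProd nabla ω' I e ∈ LogConn.piece nabla ω t I := by
  classical
  intro I
  induction I using Finset.induction_on_min with
  | empty =>
    have h := mem_piece_of_term t ω nabla (subset_refl (∅ : Finset (Fin n))) e
    simpa [LogConn.compProd] using h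
  | insert k R hlt ih =>
    have hkR : k ∉ R := fun h => lt_irrefl k (hlt k h)
    rw [compProd_insert_min ω' nabla hlt, LinearMap.comp_apply]
    set y := LogConn.compProd nabla ω' R e
    have hin : LogConn.comp nabla ω k y ∈ LogConn.piece nabla ω t (insert k R) := by
      rw [← gen_eq_piece lam t ω ι nabla hι hc hspan Set.univ Submodule.span_univ] at ih ⊢
      exact (gen_insert_min lam t ω ι nabla hι hc hspan Set.univ hlt).2 _ ih
    have hexp : LogConn.comp nabla ω' k y =
        ∑ j, ω'.repr (ω j) k • LogConn.comp nabla ω j y := by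
      conv_lhs => rw [LogConn.comp, Conn.along_apply, eq_sum_comp nabla ω y]
      simp [map_sum]
    rw [hexp]
    refine Submodule.sum_mem _ fun j _ => ?_
    obtain ⟨η, hη'⟩ := hη j
    obtain ⟨c, hc'⟩ := exists_mul_of_repr t' ω' ι hι' hspan' η k
    obtain ⟨s, hs⟩ := hdvd k
    have hrepr : ω'.repr (ω j) k = (if j = k then 1 else 0) - t k * (s * c) := by
      rw [show ω j = ω' j - ι η by rw [hη']; abel, map_sub, Finsupp.sub_apply, hc', hs,
        Module.Basis.repr_self, Finsupp.single_apply, mul_assoc]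
    rw [hrepr, sub_smul, mul_smul]
    refine sub_mem ?_ ?_
    · split_ifs with h
      · subst h; rw [one_smul]; exact hin
      · rw [zero_smul]; exact zero_mem _
    · have h := prod_smul_piece lam t ω ι nabla hι hc hspan hcomm R (insert k R) _
        (piece_smul_mem lam t ω ι nabla hι hc hspan R (s * c) _
          (comp_mem_piece lam t ω ι nabla hι hc hspan hcomm R j y ih))
      rwa [show insert k R \ R = {k} by
        ext a; simp only [Finset.mem_sdiff, Finset.mem_insert, Finset.mem_singleton]; constructor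
        · rintro ⟨rfl | h, h'⟩
          · rfl
          · exact absurd h h'
        · rintro rfl; exact ⟨Or.inl rfl, hkR⟩, Finset.prod_singleton] at h

include hι hc hspan hcomm hι' hspan' hη hdvd in
theorem layer_change_le (p : ℕ) :
    LogConn.layer nabla ω' t' p ≤ LogConn.layer nabla ω t p := by
  classical
  rw [← span_gens_eq_layer lam t' ω' ι nabla hι' hc hspan' p]
  intro x hx
  rw [Submodule.restrictScalars_mem] at hx
  refine (Submodule.mem_iInf _).mpr fun K => ?_
  rw [Submodule.mem_comap]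
  induction hx using Submodule.span_induction with
  | mem y hy =>
    obtain ⟨I, hI, e, v, hv1, hv2, rfl⟩ := hy
    show LogConn.coordE (E := E) ω p K _ ∈ _
    rw [LogConn.coordE, LinearMap.comp_apply, LinearEquiv.coe_coe, TensorProduct.map_tmul,
      LinearMap.id_apply, TensorProduct.rid_tmul, exteriorPower.basis_coord,
      exteriorPower.ιMultiDual_apply_ιMulti]
    set w : Fin p → Fin n := ⇑(Set.powersetCard.ofFinEmbEquiv.symm K)
    set Z : Matrix (Fin p) (Fin p) B := Matrix.of fun a b => ω.coord (w b) (v a) with hZ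
    have hcol : ∀ a b, ∃ z, Z a b = (if w b ∈ I then 1 else t (w b)) * z := by
      intro a b
      by_cases hb : w b ∈ I
      · exact ⟨Z a b, by rw [if_pos hb, one_mul]⟩
      rw [if_neg hb]
      by_cases ha : a.val < I.card
      · obtain ⟨η, hη'⟩ := hη (I.orderEmbOfFin rfl ⟨a.val, ha⟩)
        obtain ⟨c, hc'⟩ := exists_mul_of_repr t ω ι hι hspan η (w b)
        refine ⟨c, ?_⟩
        rw [hZ, Matrix.of_apply, hv1 a ha, hη', Module.Basis.coord_apply, map_add, Finsupp.add_apply,
          hc', Module.Basis.repr_self,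
          Finsupp.single_eq_of_ne (fun h : w b = _ => hb (by rw [h]; exact Finset.orderEmbOfFin_mem I rfl _)),
          zero_add]
      · obtain ⟨η, hη'⟩ := hv2 a (not_lt.mp ha)
        obtain ⟨c, hc'⟩ := exists_mul_of_repr t ω ι hι hspan η (w b)
        exact ⟨c, by rw [hZ, Matrix.of_apply, Module.Basis.coord_apply, ← hη', hc']⟩
    choose z hz using hcol
    have hdet : Z.det = (∏ b, if w b ∈ I then 1 else t (w b)) * (Matrix.of z).det := by
      rw [← Matrix.det_mul_row]
      congr 1
      ext a b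
      exact hz a b
    have hprod : (∏ b, if w b ∈ I then 1 else t (w b)) = ∏ i ∈ (K : Finset (Fin n)) \ I, t i := by
      rw [Finset.prod_ite, Finset.prod_const_one, one_mul]
      refine Finset.prod_bij (fun b _ => w b) (fun b hb => ?_) (fun a _ b _ h => ?_) (fun i hi => ?_)
        (fun b _ => rfl)
      · exact Finset.mem_sdiff.mpr ⟨(Set.powersetCard.mem_range_ofFinEmbEquiv_symm_iff_mem K _).mp
          ⟨b, rfl⟩, (Finset.mem_filter.mp hb).2⟩
      · exact (Set.powersetCard.ofFinEmbEquiv.symm K).injective h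
      · obtain ⟨b, rfl⟩ : i ∈ Set.range w :=
          (Set.powersetCard.mem_range_ofFinEmbEquiv_symm_iff_mem K i).mpr (Finset.mem_sdiff.mp hi).1
        exact ⟨b, Finset.mem_filter.mpr ⟨Finset.mem_univ _, (Finset.mem_sdiff.mp hi).2⟩, rfl⟩
    rw [hdet, hprod, mul_smul]
    exact prod_smul_piece lam t ω ι nabla hι hc hspan hcomm I _ _
      (piece_smul_mem lam t ω ι nabla hι hc hspan _ _ _
        (compProd'_mem_piece lam t ω ι nabla hι hc hspan hcomm t' ω' hι' hspan' hη hdvd e I))
  | zero => simp
  | add a b _ _ ha hb => rw [map_add]; exact add_mem ha hb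
  | smul r a _ ha =>
    show LogConn.coordE (E := E) ω p K (r • a) ∈ _
    rw [map_smul]
    exact piece_smul_mem lam t ω ι nabla hι hc hspan _ _ _ ha

include hι hc in
theorem layer_eq_of_unit (bΩ : Module.Basis (Fin n) B (KaehlerDifferential A B))
    (hbΩ : ∀ i, bΩ i = KaehlerDifferential.D A B (t i))
    (d : ∀ p : ℕ, ↥(⋀[B]^p L) →ₗ[A] ↥(⋀[B]^(p + 1) L))
    (hd : LogDiff.IsLogRule (KaehlerDifferential.D A B) ι (⇑ω) d)
    (nablas : ∀ p : ℕ, E ⊗[B] ↥(⋀[B]^p L) →ₗ[A] E ⊗[B] ↥(⋀[B]^(p + 1) L))
    (hint : Conn.IsIntegrable nabla (fun p => lam • d p) nablas)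
    (u : Fin n → Bˣ) (bΩ' : Module.Basis (Fin n) B (KaehlerDifferential A B))
    (hbΩ' : ∀ i, bΩ' i = KaehlerDifferential.D A B ((u i : B) * t i))
    (hω' : ∀ i, ω' i = ω i + ((u i)⁻¹ : Bˣ).val • ι (KaehlerDifferential.D A B (u i : B)))
    (p : ℕ) :
    LogConn.layer nabla ω t p = LogConn.layer nabla ω' (fun i => (u i : B) * t i) p := by
  have hs : Submodule.span B (Set.range fun i => KaehlerDifferential.D A B (t i)) = ⊤ := by
    rw [← bΩ.span_eq]; congr 2; funext i; exact (hbΩ i).symm
  have hs' : Submodule.span B (Set.range fun i => KaehlerDifferential.D A B ((u i : B) * t i)) = ⊤ := by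
    rw [← bΩ'.span_eq]; congr 2; funext i; exact (hbΩ' i).symm
  have hι₂ : ∀ i, ι (KaehlerDifferential.D A B ((u i : B) * t i)) = ((u i : B) * t i) • ω' i := by
    intro i
    rw [Derivation.leibniz, map_add, map_smul, map_smul, hι, hω', smul_add, smul_smul, smul_smul,
      mul_right_comm, Units.mul_inv, one_mul]
  have hcm := fun a b m => comp_commute_of_d_eq_zero ω lam nabla d
    (d_one_eq_zero ω ι d hd) nablas hint a b m
  have hcm' := fun a b m => comp_commute_of_d_eq_zero ω' lam nabla d
    (fun j => by rw [show (fun _ : Fin 1 => ω' j) = fun _ => ω j +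
      ((u j)⁻¹ : Bˣ).val • ι (KaehlerDifferential.D A B (u j : B)) from funext fun _ => hω' j]
                 exact d_one_add_dlog_eq_zero ω ι d hd j (u j)) nablas hint a b m
  refine le_antisymm ?_ ?_
  · refine layer_change_le lam (fun i => (u i : B) * t i) ω' ι nabla hι₂ hc hs' hcm' t ω hι hs
      (fun i => ⟨-(((u i)⁻¹ : Bˣ).val • KaehlerDifferential.D A B (u i : B)), ?_⟩)
      (fun i => ⟨((u i)⁻¹ : Bˣ).val, ?_⟩) p
    · rw [hω', map_neg, map_smul]; abel
    · rw [mul_right_comm, Units.mul_inv, one_mul]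
  · exact layer_change_le lam t ω ι nabla hι hc hs hcm (fun i => (u i : B) * t i) ω' hι₂ hs'
      (fun i => ⟨((u i)⁻¹ : Bˣ).val • KaehlerDifferential.D A B (u i : B), by rw [hω', map_smul]⟩)
      (fun i => dvd_mul_left _ _) p

end Groth.Agent.LayerLib
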