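import Groth.Prelude.Def_W4swconnpcurvhiggsLogLam
import Groth.Prelude.Def_LogDiff
import Mathlib

/-!
The complex of an integrable logarithmic λ-connection preserves the layers.
-/

set_option autoImplicit false
set_option maxHeartbeats 800000
set_option linter.style.haveILetI false
universe v u
open TensorProduct

namespace Groth.Agent.LayerLib

variable {A : Type v} {B L E : Type u} [CommRing A] [CommRing B]
  [Algebra A B] [AddCommGroup L] [Module B L]
  [AddCommGroup E] [Module B E] [Module A E] [IsScalarTower A B E] {n : ℕ}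

theorem eq_sum_comp (nabla : E →ₗ[A] E ⊗[B] L) (ω : Module.Basis (Fin n) B L) (m : E) :
    nabla m = ∑ i, LogConn.comp nabla ω i m ⊗ₜ[B] ω i := by
  simp only [LogConn.comp, Conn.along_apply]
  induction nabla m using TensorProduct.induction_on with
  | zero => simp
  | tmul x l =>
    simp only [TensorProduct.map_tmul, LinearMap.id_apply, TensorProduct.rid_tmul,
      TensorProduct.smul_tmul, ← TensorProduct.tmul_sum, Module.Basis.coord_apply, ω.sum_repr]
  | add a b ha hb =>
    simp only [map_add, TensorProduct.add_tmul, Finset.sum_add_distrib, ← ha, ← hb]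

theorem eq_sum_coord (ω : Module.Basis (Fin n) B L) (p : ℕ) (x : E ⊗[B] ↥(⋀[B]^p L)) :
    x = ∑ K, LogConn.coordE (E := E) ω p K x ⊗ₜ[B] (ω.exteriorPower p K) := by
  induction x using TensorProduct.induction_on with
  | zero => simp
  | tmul e l =>
    simp only [LogConn.coordE, LinearMap.comp_apply, LinearEquiv.coe_coe, TensorProduct.map_tmul,
      LinearMap.id_apply, TensorProduct.rid_tmul, TensorProduct.smul_tmul, ← TensorProduct.tmul_sum,
      Module.Basis.coord_apply, (ω.exteriorPower p).sum_repr]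
  | add a b ha hb =>
    simp only [map_add, TensorProduct.add_tmul, Finset.sum_add_distrib, ← ha, ← hb]

theorem oneEquiv_symm_apply (l : L) :
    (exteriorPower.oneEquiv B L).symm l = exteriorPower.ιMulti B 1 (fun _ => l) := rfl

theorem wedge_one (p : ℕ) (l : L) (w : Fin p → L) :
    Conn.wedge p ((exteriorPower.oneEquiv B L).symm l) (exteriorPower.ιMulti B p w) =
      exteriorPower.ιMulti B (p + 1) (Fin.cons l w) := by
  refine Subtype.ext ?_
  rw [Conn.wedge_apply_coe, oneEquiv_symm_apply, exteriorPower.ιMulti_apply_coe,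
    exteriorPower.ιMulti_apply_coe, exteriorPower.ιMulti_apply_coe,
    ExteriorAlgebra.ιMulti_succ_apply (v := Fin.cons l w), ExteriorAlgebra.ιMulti_succ_apply,
    ExteriorAlgebra.ιMulti_zero_apply, mul_one]
  simp [Matrix.vecTail, Function.comp_def]

variable (ω : Module.Basis (Fin n) B L)

theorem nablas_tmul [Module A L] [IsScalarTower A B L]
    {δ : Derivation A B (KaehlerDifferential A B)} (ι : KaehlerDifferential A B →ₗ[B] L)
    (lam : B) (nabla : E →ₗ[A] E ⊗[B] L)
    (d : ∀ p : ℕ, ↥(⋀[B]^p L) →ₗ[A] ↥(⋀[B]^(p + 1) L))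
    (hd : LogDiff.IsLogRule δ ι (⇑ω) d)
    (nablas : ∀ p : ℕ, E ⊗[B] ↥(⋀[B]^p L) →ₗ[A] E ⊗[B] ↥(⋀[B]^(p + 1) L))
    (hrule : Conn.IsCxRule nabla (fun p => lam • d p) nablas)
    (p : ℕ) (m : E) (w : Fin p → Fin n) :
    nablas p (m ⊗ₜ[B] exteriorPower.ιMulti B p (ω ∘ w)) =
      ∑ i, LogConn.comp nabla ω i m ⊗ₜ[B] exteriorPower.ιMulti B (p + 1) (ω ∘ Fin.cons i w) := by
  rw [hrule]
  have h0 : d p (exteriorPower.ιMulti B p (ω ∘ w)) = 0 := by
    have h := hd p 1 (ω ∘ w) (fun k => Or.inr ⟨w k, rfl⟩)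
    rw [one_smul, δ.map_one_eq_zero, map_zero] at h
    rw [h]
    exact AlternatingMap.map_coord_zero _ 0 (by simp)
  rw [LinearMap.smul_apply, h0, smul_zero, TensorProduct.tmul_zero, add_zero,
    eq_sum_comp nabla ω m, map_sum, map_sum, LinearMap.sum_apply]
  refine Finset.sum_congr rfl fun i _ => ?_
  rw [Conn.toOne_tmul, Conn.twedge_tmul, wedge_one]
  congr 2
  funext k
  induction k using Fin.cases <;> simp

theorem comp_commute [Module A L] [IsScalarTower A B L]
    {δ : Derivation A B (KaehlerDifferential A B)} (ι : KaehlerDifferential A B →ₗ[B] L)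
    (lam : B) (nabla : E →ₗ[A] E ⊗[B] L)
    (d : ∀ p : ℕ, ↥(⋀[B]^p L) →ₗ[A] ↥(⋀[B]^(p + 1) L))
    (hd : LogDiff.IsLogRule δ ι (⇑ω) d)
    (nablas : ∀ p : ℕ, E ⊗[B] ↥(⋀[B]^p L) →ₗ[A] E ⊗[B] ↥(⋀[B]^(p + 1) L))
    (hint : Conn.IsIntegrable nabla (fun p => lam • d p) nablas)
    (a b : Fin n) (m : E) :
    LogConn.comp nabla ω a (LogConn.comp nabla ω b m) =
      LogConn.comp nabla ω b (LogConn.comp nabla ω a m) := by
  classical
  by_cases hab : a = b
  · subst hab; rfl
  have h := hint.2 m
  rw [eq_sum_comp nabla ω m, map_sum, map_sum] at h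
  have h1 : ∀ j, nablas 1 (Conn.toOne (LogConn.comp nabla ω j m ⊗ₜ[B] ω j)) =
      ∑ i, LogConn.comp nabla ω i (LogConn.comp nabla ω j m) ⊗ₜ[B]
        exteriorPower.ιMulti B 2 (ω ∘ Fin.cons i (fun _ => j)) := fun j => by
    rw [Conn.toOne_tmul, oneEquiv_symm_apply,
      show (fun _ : Fin 1 => ω j) = ω ∘ (fun _ => j) from rfl,
      nablas_tmul ω ι lam nabla d hd nablas hint.1]
  simp only [h1] at h
  -- test against the dual form of `ω a ∧ ω b`
  let φ : E ⊗[B] ↥(⋀[B]^2 L) →ₗ[B] E := (TensorProduct.rid B E).toLinearMap ∘ₗ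
    TensorProduct.map LinearMap.id
      (exteriorPower.pairingDual B L 2 (exteriorPower.ιMulti B 2 ![ω.coord a, ω.coord b]))
  have h2 := congrArg φ h
  simp only [map_sum, map_zero, φ, LinearMap.comp_apply, LinearEquiv.coe_coe, TensorProduct.map_tmul,
    LinearMap.id_apply, TensorProduct.rid_tmul, exteriorPower.pairingDual_ιMulti_ιMulti,
    Matrix.det_fin_two, Matrix.of_apply, Matrix.cons_val_zero, Matrix.cons_val_one,
    Module.Basis.coord_apply, Function.comp_apply, Fin.cons_zero, Fin.cons_one,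
    Module.Basis.repr_self] at h2
  rw [Finset.sum_comm] at h2
  simp only [Finsupp.single_apply, sub_smul, Finset.sum_sub_distrib, ite_mul, mul_ite, one_mul,
    mul_one, zero_mul, mul_zero, ite_smul, one_smul, zero_smul] at h2
  simp only [Finset.sum_ite_eq', Finset.sum_ite_eq, Finset.mem_univ, if_true] at h2
  exact sub_eq_zero.mp h2

theorem comp_smul (δ : Derivation A B (KaehlerDifferential A B)) [Module A L] [IsScalarTower A B L]
    (ι : KaehlerDifferential A B →ₗ[B] L) (lam : B) (nabla : E →ₗ[A] E ⊗[B] L)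
    (hc : Conn.IsLamConn (ι.compDer δ) lam nabla) (i : Fin n) (b : B) (m : E) :
    LogConn.comp nabla ω i (b • m) =
      b • LogConn.comp nabla ω i m + (lam * ω.repr (ι (δ b)) i) • m := by
  simp only [LogConn.comp, Conn.along_apply]
  rw [hc b m, map_add, map_smul, map_smul, map_add, map_smul, map_smul, TensorProduct.map_tmul,
    TensorProduct.rid_tmul, LinearMap.id_apply, smul_smul]
  rfl

theorem compProd_insert (nabla : E →ₗ[A] E ⊗[B] L)
    (hcomm : ∀ a b m, LogConn.comp nabla ω a (LogConn.comp nabla ω b m) =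
      LogConn.comp nabla ω b (LogConn.comp nabla ω a m))
    {i : Fin n} {J : Finset (Fin n)} (hi : i ∉ J) :
    LogConn.compProd nabla ω (insert i J) = LogConn.comp nabla ω i ∘ₗ LogConn.compProd nabla ω J := by
  haveI : LeftCommutative (fun (j : Fin n) (φ : E →ₗ[A] E) => LogConn.comp nabla ω j ∘ₗ φ) :=
    ⟨fun a b φ => LinearMap.ext fun m => hcomm a b (φ m)⟩
  have hperm : List.Perm ((insert i J).sort (· ≤ ·)) (i :: J.sort (· ≤ ·)) := by
    rw [List.perm_ext_iff_of_nodup (Finset.sort_nodup _ _)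
      (List.nodup_cons.mpr ⟨by simpa using hi, Finset.sort_nodup _ _⟩)]
    intro a; simp
  rw [LogConn.compProd, hperm.foldr_eq, List.foldr_cons]
  rfl

theorem main [Module A L] [IsScalarTower A B L]
    (lam : B) (t : Fin n → B) (ι : KaehlerDifferential A B →ₗ[B] L)
    (hι : ∀ i, ι (KaehlerDifferential.D A B (t i)) = t i • ω i)
    (nabla : E →ₗ[A] E ⊗[B] L)
    (hc : Conn.IsLamConn (ι.compDer (KaehlerDifferential.D A B)) lam nabla)
    (d : ∀ p : ℕ, ↥(⋀[B]^p L) →ₗ[A] ↥(⋀[B]^(p + 1) L))
    (hd : LogDiff.IsLogRule (KaehlerDifferential.D A B) ι (⇑ω) d)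
    (nablas : ∀ p : ℕ, E ⊗[B] ↥(⋀[B]^p L) →ₗ[A] E ⊗[B] ↥(⋀[B]^(p + 1) L))
    (hint : Conn.IsIntegrable nabla (fun p => lam • d p) nablas)
    (p : ℕ) (x : E ⊗[B] ↥(⋀[B]^p L)) (hx : x ∈ LogConn.layer nabla ω t p) :
    nablas p x ∈ LogConn.layer nabla ω t (p + 1) := by
  classical
  have hcomm := fun a b m => comp_commute ω ι lam nabla d hd nablas hint a b m
  -- components move one piece into the next
  have hpiece : ∀ (K : Finset (Fin n)) (i : Fin n), i ∉ K → ∀ e ∈ LogConn.piece nabla ω t K,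
      LogConn.comp nabla ω i e ∈ LogConn.piece nabla ω t (insert i K) := by
    intro K i hi
    suffices h : LogConn.piece nabla ω t K ≤
        (LogConn.piece nabla ω t (insert i K)).comap (LogConn.comp nabla ω i) from fun e he => h he
    refine iSup₂_le fun J hJ => ?_
    rw [Finset.mem_powerset] at hJ
    rintro _ ⟨e, rfl⟩
    have hlin : ∀ (S : Finset (Fin n)), i ∉ S → ∀ m, LogConn.comp nabla ω i ((∏ j ∈ S, t j) • m) =
        (∏ j ∈ S, t j) • LogConn.comp nabla ω i m := by
      intro S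
      induction S using Finset.induction_on with
      | empty => simp
      | insert j S hj ih =>
        intro hiS m
        rw [Finset.mem_insert, not_or] at hiS
        rw [Finset.prod_insert hj, mul_smul, comp_smul ω _ ι lam nabla hc, ih hiS.2, hι,
          map_smul, Module.Basis.repr_self, Finsupp.smul_single, Finsupp.single_eq_of_ne hiS.1,
          mul_zero, zero_smul, add_zero, smul_smul]
    show LogConn.comp nabla ω i ((∏ j ∈ K \ J, t j) • LogConn.compProd nabla ω J e) ∈ LogConn.piece nabla ω t (insert i K)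
    rw [hlin _ (fun h => hi (Finset.mem_sdiff.mp h).1)]
    refine Submodule.mem_iSup_of_mem (insert i J) (Submodule.mem_iSup_of_mem
      (Finset.mem_powerset.mpr (Finset.insert_subset_insert i hJ)) ⟨e, ?_⟩)
    rw [compProd_insert ω nabla hcomm (fun h => hi (hJ h)),
      show insert i K \ insert i J = K \ J by
        ext a
        simp only [Finset.mem_sdiff, Finset.mem_insert, not_or]
        constructor
        · rintro ⟨rfl | ha, h1, h2⟩
          · exact absurd rfl h1
          · exact ⟨ha, h2⟩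
        · rintro ⟨ha, h2⟩
          exact ⟨Or.inr ha, fun h => hi (h ▸ ha), h2⟩]
    rfl
  rw [eq_sum_coord ω p x, map_sum]
  refine Submodule.sum_mem _ fun K _ => ?_
  have hxK : LogConn.coordE (E := E) ω p K x ∈ LogConn.piece nabla ω t (K : Finset (Fin n)) :=
    (Submodule.mem_iInf _).mp hx K
  rw [exteriorPower.basis_apply]
  set w : Fin p → Fin n := ⇑(Set.powersetCard.ofFinEmbEquiv.symm K) with hw
  change nablas p (LogConn.coordE (E := E) ω p K x ⊗ₜ[B] exteriorPower.ιMulti B p (ω ∘ w)) ∈ _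
  rw [nablas_tmul ω ι lam nabla d hd nablas hint.1]
  refine Submodule.sum_mem _ fun i _ => ?_
  by_cases hiK : i ∈ (K : Finset (Fin n))
  · obtain ⟨k, hk⟩ : i ∈ Set.range w :=
      (Set.powersetCard.mem_range_ofFinEmbEquiv_symm_iff_mem K i).mpr hiK
    rw [AlternatingMap.map_eq_zero_of_eq _ (i := 0) (j := k.succ) (ω ∘ Fin.cons i w)
      (by simp [hk]) (Fin.succ_ne_zero k).symm, TensorProduct.tmul_zero]
    exact zero_mem _
  refine (Submodule.mem_iInf _).mpr fun K' => ?_
  rw [Submodule.mem_comap]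
  show LogConn.coordE (E := E) ω (p + 1) K' _ ∈ _
  rw [LogConn.coordE, LinearMap.comp_apply, LinearEquiv.coe_coe, TensorProduct.map_tmul,
    LinearMap.id_apply, TensorProduct.rid_tmul, exteriorPower.basis_coord,
    exteriorPower.ιMultiDual_apply_ιMulti]
  set w' : Fin (p + 1) → Fin n := ⇑(Set.powersetCard.ofFinEmbEquiv.symm K') with hw'
  set Z : Matrix (Fin (p + 1)) (Fin (p + 1)) ℤ :=
    Matrix.of fun a b => if (Fin.cons i w : Fin (p + 1) → Fin n) a = w' b then 1 else 0 with hZ
  have hmat : (Matrix.of fun a b => ω.coord (w' b) ((ω ∘ Fin.cons i w) a)) =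
      (Int.castRingHom B).mapMatrix Z := by
    ext a b
    simp [hZ, Finsupp.single_apply]
  rw [hmat, ← RingHom.map_det, eq_intCast, Int.cast_smul_eq_zsmul]
  by_cases hKK : (K' : Finset (Fin n)) = insert i (K : Finset (Fin n))
  · rw [hKK]
    exact zsmul_mem (hpiece _ i hiK _ hxK) _
  · suffices Z.det = 0 by rw [this, zero_smul]; exact zero_mem _
    obtain ⟨a, ha, ha'⟩ : ∃ a ∈ (K' : Finset (Fin n)), a ∉ insert i (K : Finset (Fin n)) := by
      by_contra h
      push Not at h
      refine hKK (Finset.eq_of_subset_of_card_le h ?_)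
      rw [Finset.card_insert_of_notMem hiK]
      rw [show (K : Finset (Fin n)).card = p from K.2, show (K' : Finset (Fin n)).card = p + 1 from K'.2]
    obtain ⟨b, rfl⟩ : a ∈ Set.range w' :=
      (Set.powersetCard.mem_range_ofFinEmbEquiv_symm_iff_mem K' a).mpr ha
    refine Matrix.det_eq_zero_of_column_eq_zero b fun c => ?_
    simp only [hZ, Matrix.of_apply, ite_eq_right_iff, one_ne_zero, imp_false]
    intro h
    refine ha' (h ▸ ?_)
    induction c using Fin.cases with
    | zero => simp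
    | succ c =>
      rw [Fin.cons_succ]
      exact Finset.mem_insert_of_mem
        ((Set.powersetCard.mem_range_ofFinEmbEquiv_symm_iff_mem K _).mp ⟨c, rfl⟩)

end Groth.Agent.LayerLib
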