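import Groth.Agent.LayerLib.Main

/-!
The pieces of a logarithmic λ-connection: stability, generators, and the layers they span.
-/

set_option autoImplicit false
set_option maxHeartbeats 800000
set_option linter.style.haveILetI false
universe v u
open TensorProduct

namespace Groth.Agent.LayerLib

variable {A : Type v} {B L E : Type u} [CommRing A] [CommRing B]
  [Algebra A B] [AddCommGroup L] [Module B L] [Module A L] [IsScalarTower A B L]
  [AddCommGroup E] [Module B E] [Module A E] [IsScalarTower A B E] {n : ℕ}
variable (lam : B) (t : Fin n → B) (ω : Module.Basis (Fin n) B L)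
  (ι : KaehlerDifferential A B →ₗ[B] L) (nabla : E →ₗ[A] E ⊗[B] L)

omit [Module A L] [IsScalarTower A B L] in
theorem compProd_insert_min {j : Fin n} {R : Finset (Fin n)} (hlt : ∀ x ∈ R, j < x) :
    LogConn.compProd nabla ω (insert j R) = LogConn.comp nabla ω j ∘ₗ LogConn.compProd nabla ω R := by
  rw [LogConn.compProd, Finset.sort_insert _ (fun x hx => (hlt x hx).le) (fun h => lt_irrefl j (hlt j h)),
    List.foldr_cons]
  rfl

omit [Module A L] [IsScalarTower A B L] in
/-- recursion on the least index -/
theorem term_insert_min {j : Fin n} {R J : Finset (Fin n)} (hlt : ∀ x ∈ R, j < x) (hJ : J ⊆ R) :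
    insert j R \ insert j J = R \ J ∧ insert j R \ J = insert j (R \ J) ∧ j ∉ R \ J := by
  have hj : j ∉ R := fun h => lt_irrefl j (hlt j h)
  refine ⟨?_, Finset.insert_sdiff_of_notMem _ (fun h => hj (hJ h)), fun h => hj (Finset.mem_sdiff.mp h).1⟩
  ext a
  simp only [Finset.mem_sdiff, Finset.mem_insert, not_or]
  constructor
  · rintro ⟨rfl | ha, h1, h2⟩
    · exact absurd rfl h1
    · exact ⟨ha, h2⟩
  · rintro ⟨ha, h2⟩
    exact ⟨Or.inr ha, fun h => hj (h ▸ ha), h2⟩

variable (hι : ∀ i, ι (KaehlerDifferential.D A B (t i)) = t i • ω i)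
  (hc : Conn.IsLamConn (ι.compDer (KaehlerDifferential.D A B)) lam nabla)

omit [Module A L] [IsScalarTower A B L] in
include hι in
theorem exists_mul_of_repr (hspan : Submodule.span B (Set.range fun i => KaehlerDifferential.D A B (t i)) = ⊤)
    (η : KaehlerDifferential A B) (j : Fin n) : ∃ c, ω.repr (ι η) j = t j * c := by
  obtain ⟨a, ha⟩ := (Submodule.mem_span_range_iff_exists_fun B).mp (hspan ▸ Submodule.mem_top : η ∈ _)
  refine ⟨a j, ?_⟩
  rw [← ha, map_sum]
  simp only [map_smul, hι, map_sum, Module.Basis.repr_self, Finsupp.smul_single, Finsupp.coe_finsetSum,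
    Finset.sum_apply, smul_eq_mul, mul_one]
  rw [Finset.sum_eq_single j]
  · rw [Finsupp.single_eq_same, mul_comm]
  · intro i _ hi; rw [Finsupp.single_eq_of_ne (Ne.symm hi)]
  · simp

include hι hc in
theorem comp_prod_smul (j : Fin n) : ∀ (S : Finset (Fin n)), j ∉ S → ∀ (m : E),
    LogConn.comp nabla ω j ((∏ i ∈ S, t i) • m) = (∏ i ∈ S, t i) • LogConn.comp nabla ω j m := by
  classical
  intro S
  induction S using Finset.induction_on with
  | empty => simp
  | insert i S hi ih =>
    intro hiS m
    rw [Finset.mem_insert, not_or] at hiS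
    rw [Finset.prod_insert hi, mul_smul, comp_smul ω _ ι lam nabla hc, ih hiS.2, hι,
      map_smul, Module.Basis.repr_self, Finsupp.smul_single, Finsupp.single_eq_of_ne hiS.1,
      mul_zero, zero_smul, add_zero, smul_smul]

/-- generators of a piece along a set of elements -/
def gen (G : Set E) (I : Finset (Fin n)) : Submodule B E :=
  Submodule.span B {x | ∃ J ⊆ I, ∃ e ∈ G, x = (∏ i ∈ I \ J, t i) • LogConn.compProd nabla ω J e}

include hι hc in
theorem gen_insert_min (hspan : Submodule.span B (Set.range fun i => KaehlerDifferential.D A B (t i)) = ⊤)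
    (G : Set E) {j : Fin n} {R : Finset (Fin n)} (hlt : ∀ x ∈ R, j < x) :
    (∀ y ∈ gen t ω nabla G R, t j • y ∈ gen t ω nabla G (insert j R)) ∧
      (∀ y ∈ gen t ω nabla G R, LogConn.comp nabla ω j y ∈ gen t ω nabla G (insert j R)) := by
  classical
  have h1 : ∀ y ∈ gen t ω nabla G R, t j • y ∈ gen t ω nabla G (insert j R) := by
    intro y hy
    induction hy using Submodule.span_induction with
    | mem x hx =>
      obtain ⟨J, hJ, e, he, rfl⟩ := hx
      obtain ⟨-, h2, h3⟩ := term_insert_min hlt hJ
      refine Submodule.subset_span ⟨J, hJ.trans (Finset.subset_insert _ _), e, he, ?_⟩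
      rw [h2, Finset.prod_insert h3, mul_smul]
    | zero => simp
    | add a b _ _ ha hb => rw [smul_add]; exact add_mem ha hb
    | smul r a _ ha => rw [smul_comm]; exact Submodule.smul_mem _ _ ha
  refine ⟨h1, fun y hy => ?_⟩
  induction hy using Submodule.span_induction with
  | mem x hx =>
    obtain ⟨J, hJ, e, he, rfl⟩ := hx
    obtain ⟨h2, -, h3⟩ := term_insert_min hlt hJ
    refine Submodule.subset_span ⟨insert j J, Finset.insert_subset_insert j hJ, e, he, ?_⟩
    rw [comp_prod_smul lam t ω ι nabla hι hc j _ h3, h2,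
      compProd_insert_min ω nabla (fun x hx => hlt x (hJ hx))]
    rfl
  | zero => simp
  | add a b _ _ ha hb => rw [map_add]; exact add_mem ha hb
  | smul r a ha0 ha =>
    obtain ⟨c, hc'⟩ := exists_mul_of_repr t ω ι hι hspan (KaehlerDifferential.D A B r) j
    rw [comp_smul ω _ ι lam nabla hc, hc', mul_left_comm, mul_smul]
    exact add_mem (Submodule.smul_mem _ _ ha) (h1 _ (Submodule.smul_mem _ _ ha0))

include hι hc in
/-- Whole composites lie in the generated piece. -/
theorem mem_gen (hspan : Submodule.span B (Set.range fun i => KaehlerDifferential.D A B (t i)) = ⊤)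
    (G : Set E) (hG : Submodule.span B G = ⊤) : ∀ (I J : Finset (Fin n)), J ⊆ I → ∀ e : E,
    (∏ i ∈ I \ J, t i) • LogConn.compProd nabla ω J e ∈ gen t ω nabla G I := by
  classical
  intro I
  induction I using Finset.induction_on_min with
  | empty =>
    intro J hJ e
    rw [Finset.subset_empty.mp hJ]
    have : e ∈ Submodule.span B G := hG ▸ Submodule.mem_top
    have hle : Submodule.span B G ≤ gen t ω nabla G ∅ := Submodule.span_mono fun x hx =>
      ⟨∅, subset_rfl, x, hx, by simp [LogConn.compProd]⟩
    simpa [LogConn.compProd] using hle this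
  | insert j R hlt ih =>
    intro J hJ e
    by_cases hj : j ∈ J
    · have hsub : J.erase j ⊆ R := fun a ha => by
        obtain ⟨h1, h2⟩ := Finset.mem_erase.mp ha
        exact (Finset.mem_insert.mp (hJ h2)).resolve_left h1
      obtain ⟨h2, -, h3⟩ := term_insert_min hlt hsub
      rw [← Finset.insert_erase hj, h2, compProd_insert_min ω nabla (fun x hx => hlt x (hsub hx)),
        LinearMap.comp_apply, ← comp_prod_smul lam t ω ι nabla hι hc j _ h3]
      exact (gen_insert_min lam t ω ι nabla hι hc hspan G hlt).2 _ (ih _ hsub e)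
    · have hsub : J ⊆ R := fun a ha => (Finset.mem_insert.mp (hJ ha)).resolve_left fun h => hj (h ▸ ha)
      obtain ⟨-, h2, h3⟩ := term_insert_min hlt hsub
      rw [h2, Finset.prod_insert h3, mul_smul]
      exact (gen_insert_min lam t ω ι nabla hι hc hspan G hlt).1 _ (ih _ hsub e)

include hι hc in
theorem gen_eq_piece (hspan : Submodule.span B (Set.range fun i => KaehlerDifferential.D A B (t i)) = ⊤)
    (G : Set E) (hG : Submodule.span B G = ⊤) (I : Finset (Fin n)) :
    (gen t ω nabla G I).restrictScalars A = LogConn.piece nabla ω t I := by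
  classical
  have hle : ∀ G' : Set E, Submodule.span B G' = ⊤ →
      LogConn.piece nabla ω t I ≤ (gen t ω nabla G' I).restrictScalars A := fun G' hG' =>
    iSup₂_le fun J hJ => by
      rintro _ ⟨e, rfl⟩
      exact mem_gen lam t ω ι nabla hι hc hspan G' hG' I J (Finset.mem_powerset.mp hJ) e
  refine le_antisymm ?_ (hle G hG)
  -- the piece is stable under scalars
  have hstab : ∀ (I : Finset (Fin n)) (b : B), ∀ x ∈ LogConn.piece nabla ω t I,
      b • x ∈ LogConn.piece nabla ω t I := by
    intro I
    induction I using Finset.induction_on_min with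
    | empty =>
      intro b x _
      refine Submodule.mem_iSup_of_mem ∅ (Submodule.mem_iSup_of_mem (Finset.empty_mem_powerset _)
        ⟨b • x, ?_⟩)
      simp [LogConn.compProd]
    | insert j R hlt ih =>
      have h1 : LogConn.piece nabla ω t R ≤ (LogConn.piece nabla ω t (insert j R)).comap
          ((LinearMap.lsmul B E (t j)).restrictScalars A) := iSup₂_le fun J hJ => by
        rintro _ ⟨e, rfl⟩
        obtain ⟨-, h2, h3⟩ := term_insert_min hlt (Finset.mem_powerset.mp hJ)
        refine Submodule.mem_iSup_of_mem J (Submodule.mem_iSup_of_mem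
          (Finset.mem_powerset.mpr ((Finset.mem_powerset.mp hJ).trans (Finset.subset_insert _ _))) ⟨e, ?_⟩)
        simp only [LinearMap.comp_apply, LinearMap.coe_restrictScalars, LinearMap.lsmul_apply]
        rw [h2, Finset.prod_insert h3, mul_smul]
      have h1' : LogConn.piece nabla ω t R ≤ (LogConn.piece nabla ω t (insert j R)).comap
          (LogConn.comp nabla ω j) := iSup₂_le fun J hJ => by
        rintro _ ⟨e, rfl⟩
        obtain ⟨h2, -, h3⟩ := term_insert_min hlt (Finset.mem_powerset.mp hJ)
        refine Submodule.mem_iSup_of_mem (insert j J) (Submodule.mem_iSup_of_mem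
          (Finset.mem_powerset.mpr (Finset.insert_subset_insert _ (Finset.mem_powerset.mp hJ))) ⟨e, ?_⟩)
        simp only [LinearMap.comp_apply, LinearMap.coe_restrictScalars, LinearMap.lsmul_apply]
        rw [comp_prod_smul lam t ω ι nabla hι hc j _ h3, h2,
          compProd_insert_min ω nabla (fun x hx => hlt x (Finset.mem_powerset.mp hJ hx))]
        rfl
      intro b
      suffices H : LogConn.piece nabla ω t (insert j R) ≤
          (LogConn.piece nabla ω t (insert j R)).comap ((LinearMap.lsmul B E b).restrictScalars A) from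
        fun x hx => H hx
      refine iSup₂_le fun J hJ => ?_
      rintro _ ⟨e, rfl⟩
      rw [Finset.mem_powerset] at hJ
      show b • (∏ i ∈ insert j R \ J, t i) • LogConn.compProd nabla ω J e ∈ LogConn.piece nabla ω t (insert j R)
      by_cases hj : j ∈ J
      · have hsub : J.erase j ⊆ R := fun a ha => by
          obtain ⟨h1, h2⟩ := Finset.mem_erase.mp ha
          exact (Finset.mem_insert.mp (hJ h2)).resolve_left h1
        obtain ⟨h2, -, h3⟩ := term_insert_min hlt hsub
        set y := (∏ i ∈ R \ J.erase j, t i) • LogConn.compProd nabla ω (J.erase j) e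
        have hy : y ∈ LogConn.piece nabla ω t R :=
          Submodule.mem_iSup_of_mem _ (Submodule.mem_iSup_of_mem (Finset.mem_powerset.mpr hsub) ⟨e, rfl⟩)
        obtain ⟨c, hc'⟩ := exists_mul_of_repr t ω ι hι hspan (KaehlerDifferential.D A B b) j
        have heq : (∏ i ∈ insert j R \ J, t i) • LogConn.compProd nabla ω J e =
            LogConn.comp nabla ω j y := by
          rw [← Finset.insert_erase hj, h2, compProd_insert_min ω nabla (fun x hx => hlt x (hsub hx)),
            LinearMap.comp_apply, ← comp_prod_smul lam t ω ι nabla hι hc j _ h3]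
        have hexp := comp_smul ω _ ι lam nabla hc j b y
        rw [hc', mul_left_comm, mul_smul] at hexp
        rw [heq, eq_sub_of_add_eq hexp.symm]
        exact sub_mem (h1' (ih b y hy)) (h1 (ih _ y hy))
      · have hsub : J ⊆ R := fun a ha => (Finset.mem_insert.mp (hJ ha)).resolve_left fun h => hj (h ▸ ha)
        obtain ⟨-, h2, h3⟩ := term_insert_min hlt hsub
        rw [h2, Finset.prod_insert h3, mul_smul, smul_comm b (t j)]
        exact h1 (ih b _ (Submodule.mem_iSup_of_mem J
          (Submodule.mem_iSup_of_mem (Finset.mem_powerset.mpr hsub) ⟨e, rfl⟩)))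
  intro x hx
  rw [Submodule.restrictScalars_mem] at hx
  induction hx using Submodule.span_induction with
  | mem y hy =>
    obtain ⟨J, hJ, e, -, rfl⟩ := hy
    exact Submodule.mem_iSup_of_mem J (Submodule.mem_iSup_of_mem (Finset.mem_powerset.mpr hJ) ⟨e, rfl⟩)
  | zero => exact zero_mem _
  | add a b _ _ ha hb => exact add_mem ha hb
  | smul r a _ ha => exact hstab I r a ha

include hι hc in
theorem piece_smul_mem (hspan : Submodule.span B (Set.range fun i => KaehlerDifferential.D A B (t i)) = ⊤)
    (I : Finset (Fin n)) (b : B) (x : E) (hx : x ∈ LogConn.piece nabla ω t I) :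
    b • x ∈ LogConn.piece nabla ω t I := by
  rw [← gen_eq_piece lam t ω ι nabla hι hc hspan Set.univ Submodule.span_univ] at hx ⊢
  exact Submodule.smul_mem _ b hx

include hι hc in
theorem span_gens_eq_layer (hspan : Submodule.span B (Set.range fun i => KaehlerDifferential.D A B (t i)) = ⊤)
    (p : ℕ) : (Submodule.span B (LogConn.gens nabla ω ι p)).restrictScalars A = LogConn.layer nabla ω t p := by
  classical
  refine le_antisymm (fun x hx => ?_) (fun x hx => ?_)
  · refine (Submodule.mem_iInf _).mpr fun K => ?_
    rw [Submodule.mem_comap]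
    rw [Submodule.restrictScalars_mem] at hx
    induction hx using Submodule.span_induction with
    | mem y hy =>
      obtain ⟨I, hI, e, v, hv1, hv2, rfl⟩ := hy
      show LogConn.coordE (E := E) ω p K _ ∈ _
      rw [LogConn.coordE, LinearMap.comp_apply, LinearEquiv.coe_coe, TensorProduct.map_tmul,
        LinearMap.id_apply, TensorProduct.rid_tmul, exteriorPower.basis_coord,
        exteriorPower.ιMultiDual_apply_ιMulti]
      set w : Fin p → Fin n := ⇑(Set.powersetCard.ofFinEmbEquiv.symm K)
      set Z : Matrix (Fin p) (Fin p) B := Matrix.of fun a b => ω.coord (w b) (v a) with hZ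
      have hwK : ∀ b, w b ∈ (K : Finset (Fin n)) := fun b =>
        (Set.powersetCard.mem_range_ofFinEmbEquiv_symm_iff_mem K _).mp ⟨b, rfl⟩
      by_cases hIK : I ⊆ (K : Finset (Fin n))
      · have hcol : ∀ a b, ∃ z, Z a b = (if w b ∈ I then 1 else t (w b)) * z := by
          intro a b
          by_cases hb : w b ∈ I
          · exact ⟨Z a b, by rw [if_pos hb, one_mul]⟩
          rw [if_neg hb]
          by_cases ha : a.val < I.card
          · refine ⟨0, ?_⟩
            rw [mul_zero, hZ, Matrix.of_apply, hv1 a ha, Module.Basis.coord_apply, Module.Basis.repr_self]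
            exact Finsupp.single_eq_of_ne fun h => hb (h ▸ Finset.orderEmbOfFin_mem I rfl _)
          · obtain ⟨η, hη⟩ := hv2 a (not_lt.mp ha)
            obtain ⟨c, hc'⟩ := exists_mul_of_repr t ω ι hι hspan η (w b)
            exact ⟨c, by rw [hZ, Matrix.of_apply, Module.Basis.coord_apply, ← hη, hc']⟩
        choose z hz using hcol
        have hdet : Z.det = (∏ b, if w b ∈ I then 1 else t (w b)) * (Matrix.of z).det := by
          rw [← Matrix.det_mul_row]
          congr 1
          ext a b
          exact hz a b
        have hprod : (∏ b, if w b ∈ I then 1 else t (w b)) = ∏ i ∈ (K : Finset (Fin n)) \ I, t i := by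
          rw [Finset.prod_ite, Finset.prod_const_one, one_mul]
          refine Finset.prod_bij (fun b _ => w b) (fun b hb => ?_) (fun a _ b _ h => ?_) (fun i hi => ?_)
            (fun b _ => rfl)
          · exact Finset.mem_sdiff.mpr ⟨hwK b, (Finset.mem_filter.mp hb).2⟩
          · exact (Set.powersetCard.ofFinEmbEquiv.symm K).injective h
          · obtain ⟨b, rfl⟩ : i ∈ Set.range w :=
              (Set.powersetCard.mem_range_ofFinEmbEquiv_symm_iff_mem K i).mpr (Finset.mem_sdiff.mp hi).1
            exact ⟨b, Finset.mem_filter.mpr ⟨Finset.mem_univ _, (Finset.mem_sdiff.mp hi).2⟩, rfl⟩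
        rw [hdet, hprod, mul_comm, mul_smul]
        exact piece_smul_mem lam t ω ι nabla hι hc hspan _ _ _
          (Submodule.mem_iSup_of_mem I (Submodule.mem_iSup_of_mem (Finset.mem_powerset.mpr hIK) ⟨e, rfl⟩))
      · obtain ⟨i, hiI, hiK⟩ := Finset.not_subset.mp hIK
        obtain ⟨k, hk⟩ : i ∈ Set.range (I.orderEmbOfFin rfl) := by
          rw [Finset.range_orderEmbOfFin]; exact hiI
        rw [Matrix.det_eq_zero_of_row_eq_zero (⟨k.val, lt_of_lt_of_le k.2 hI⟩ : Fin p), zero_smul]
        · exact zero_mem _
        · intro b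
          rw [hZ, Matrix.of_apply, hv1 _ k.2, Module.Basis.coord_apply, Module.Basis.repr_self]
          exact Finsupp.single_eq_of_ne fun h => hiK (by rw [← hk]; exact h ▸ hwK b)
    | zero => simp
    | add a b _ _ ha hb => rw [map_add]; exact add_mem ha hb
    | smul r a _ ha =>
      show LogConn.coordE (E := E) ω p K (r • a) ∈ _
      rw [map_smul]
      exact piece_smul_mem lam t ω ι nabla hι hc hspan _ _ _ ha
  · rw [Submodule.restrictScalars_mem, eq_sum_coord ω p x]
    refine Submodule.sum_mem _ fun K _ => ?_
    have hxK : LogConn.coordE (E := E) ω p K x ∈ LogConn.piece nabla ω t (K : Finset (Fin n)) :=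
      (Submodule.mem_iInf _).mp hx K
    suffices H : LogConn.piece nabla ω t (K : Finset (Fin n)) ≤
        ((Submodule.span B (LogConn.gens nabla ω ι p)).comap
          ((TensorProduct.mk B E _).flip (ω.exteriorPower p K))).restrictScalars A from H hxK
    refine iSup₂_le fun J hJ => ?_
    rintro _ ⟨e, rfl⟩
    rw [Finset.mem_powerset] at hJ
    show ((∏ i ∈ (K : Finset (Fin n)) \ J, t i) • LogConn.compProd nabla ω J e) ⊗ₜ[B] ω.exteriorPower p K ∈
      Submodule.span B (LogConn.gens nabla ω ι p)
    -- reorder `K` as `J` followed by the rest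
    have hcard : J.card + ((K : Finset (Fin n)) \ J).card = p := by
      rw [add_comm, Finset.card_sdiff_add_card_eq_card hJ]; exact K.2
    let w : Fin p → Fin n :=
      Fin.append (J.orderEmbOfFin rfl) (((K : Finset (Fin n)) \ J).orderEmbOfFin rfl) ∘ Fin.cast hcard.symm
    have hw : Function.Injective w := by
      refine Function.Injective.comp ?_ (Fin.cast_injective _)
      rw [Fin.append_injective_iff]
      exact ⟨(J.orderEmbOfFin rfl).injective, (((K : Finset (Fin n)) \ J).orderEmbOfFin rfl).injective,
        fun a b h => (Finset.mem_sdiff.mp (Finset.orderEmbOfFin_mem _ rfl b)).2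
          (h ▸ Finset.orderEmbOfFin_mem J rfl a)⟩
    have hwK : ∀ a, w a ∈ (K : Finset (Fin n)) := fun a => by
      show Fin.append _ _ (Fin.cast hcard.symm a) ∈ _
      induction (Fin.cast hcard.symm a) using Fin.addCases with
      | left i => rw [Fin.append_left]; exact hJ (Finset.orderEmbOfFin_mem J rfl i)
      | right i => rw [Fin.append_right]; exact (Finset.mem_sdiff.mp (Finset.orderEmbOfFin_mem _ rfl i)).1
    set w₀ : Fin p → Fin n := ⇑(Set.powersetCard.ofFinEmbEquiv.symm K) with hw₀
    have hex : ∀ a, ∃ b, w₀ b = w a := fun a =>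
      (Set.powersetCard.mem_range_ofFinEmbEquiv_symm_iff_mem K _).mpr (hwK a)
    choose σ hσ using hex
    have hσb : Function.Bijective σ := (Finite.injective_iff_bijective (f := σ)).mp
      fun a b h => hw (by rw [← hσ a, ← hσ b, h])
    have hperm : exteriorPower.ιMulti B p (ω ∘ w) =
        Equiv.Perm.sign (Equiv.ofBijective σ hσb) • ω.exteriorPower p K := by
      rw [exteriorPower.basis_apply, exteriorPower.ιMulti_family, ← AlternatingMap.map_perm]
      congr 1
      funext a
      simp [← hσ a, hw₀]
    have hK : ω.exteriorPower p K =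
        Equiv.Perm.sign (Equiv.ofBijective σ hσb) • exteriorPower.ιMulti B p (ω ∘ w) := by
      rw [hperm, smul_smul, Int.units_mul_self, one_smul]
    rw [hK]
    let c : Fin p → B := fun a => if a.val < J.card then 1 else t (w a)
    have hc' : ∏ a, c a = ∏ i ∈ (K : Finset (Fin n)) \ J, t i := by
      rw [← Equiv.prod_comp (finCongr hcard), Fin.prod_univ_add]
      have h1 : ∀ i : Fin J.card, c (finCongr hcard (Fin.castAdd _ i)) = 1 := fun i => by
        simp [c]
      have h2 : ∀ i, c (finCongr hcard (Fin.natAdd J.card i)) =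
          t (((K : Finset (Fin n)) \ J).orderEmbOfFin rfl i) := fun i => by
        simp [c, w]
      simp only [h1, h2, Finset.prod_const_one, one_mul]
      conv_rhs => rw [← Finset.map_orderEmbOfFin_univ ((K : Finset (Fin n)) \ J) rfl, Finset.prod_map]
      rfl
    have hwJ : ∀ (a : Fin p) (ha : a.val < J.card), w a = J.orderEmbOfFin rfl ⟨a.val, ha⟩ := fun a ha => by
      simp only [w, Function.comp_apply]
      rw [show Fin.cast hcard.symm a = Fin.castAdd _ ⟨a.val, ha⟩ from Fin.ext rfl, Fin.append_left]
    set v : Fin p → L := fun a => c a • ω (w a) with hv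
    have hgen : LogConn.compProd nabla ω J e ⊗ₜ[B] exteriorPower.ιMulti B p v ∈
        LogConn.gens nabla ω ι p := by
      refine ⟨J, hJ.trans subset_rfl |> fun h => (Finset.card_le_card h).trans K.2.le, e, v,
        fun a ha => ?_, fun a ha => ?_, rfl⟩
      · simp only [hv, c, if_pos ha, one_smul, hwJ a ha]
      · refine ⟨KaehlerDifferential.D A B (t (w a)), ?_⟩
        simp only [hv, c, if_neg (not_lt.mpr ha), hι]
    have hv' : exteriorPower.ιMulti B p v = (∏ i ∈ (K : Finset (Fin n)) \ J, t i) •
        exteriorPower.ιMulti B p (ω ∘ w) := by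
      rw [← hc', hv]
      exact (exteriorPower.ιMulti B p).map_smul_univ c (ω ∘ w)
    rw [hv', TensorProduct.tmul_smul, TensorProduct.smul_tmul'] at hgen
    rw [Units.smul_def, ← Int.cast_smul_eq_zsmul B, TensorProduct.tmul_smul]
    exact Submodule.smul_mem _ _ (Submodule.subset_span hgen)

end Groth.Agent.LayerLib
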